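import Cfsg.Agent.H58.TCPres

set_option autoImplicit false
set_option maxRecDepth 100000

namespace Cfsg.Agent.H78.CS4

open Cfsg.Agent.H58

noncomputable def tb0 : Nat → Nat := (lf (nat_lit 0x15080005c2000160c0005c30001308000582000110c000543000120c0005030000e0c0004c30000e080004420000b0c0004030000a040003c1000080c00034300007040003010000608000242000030400014100000000000000000000000000000000000000000000000000000000000000000000000000000000000000000000000000000000000000000000000017040005010001604000481000150400040100014080003c20001304000341000120800030200011040002c100010080002820000f0c0002430000e040002010000d080001c20000c0c0001830000b080001420000a0c000103000090400010100008080000c2000070c0000830000604000081000050c0000430000408000042000030c00000300002080000020000104000001))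
noncomputable def rk0 : Nat → Nat := (lf (nat_lit 0x17000160001500014000130001200011000100000f0000e0000d0000c0000b0000a00009000080000700006000050000400003000020000100000))
noncomputable def st0 : Nat → Nat := (lf (nat_lit 0x2b0000620000380001c00002e0500005200001000015018000290000620000380001d00002e0500005200001800018018000290000660000300001c00002c05000052000018000190180002b00006e0000280001e000030050000560000dc000218000400000680a0000ac0001b8000340300005a0000e40002180004000006c0a0000b40001c800036030000620000ec0002080003e00006c0a0000dc0001f80003a03))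
noncomputable def cl0 : Nat → Nat := (nd (nat_lit 1) (lf (nat_lit 0x7400019c000390000740000780001a40001f80006b0000ec0001bc0003c00006d00007c0001c40003d0000750000f80001cc0003f0000790000ee0001fc0003e80007b)) (nd (nat_lit 2) (lf (nat_lit 0x6e000164000310000640000640000c00002d8000660000720000ec0002e8000680000be0001a80001a0000360000c20001b00003700003d0000c600019400038000038)) (lf (nat_lit 0xa400009c000148000540000560000a00002b00002600005a00014c0002c00002f0000b40000a8000188000550000b80000b80002f00003300005800015c00030000035))))
def iv : Nat := 794688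

def rels : List (List Nat) := [[1, 2, 1, 2, 1, 2],
  [2, 3, 2, 3, 2, 3],
  [1, 3, 1, 3]]

noncomputable def tbl : Nat → Nat := (nd (nat_lit 1) tb0 (lf (nat_lit 0)))
noncomputable def rnk : Nat → Nat := (nd (nat_lit 1) rk0 (lf (nat_lit 0)))
noncomputable def str : Nat → Nat := (nd (nat_lit 1) st0 (lf (nat_lit 0)))
noncomputable def clo : Nat → Nat := (nd (nat_lit 3) cl0 (lf (nat_lit 0)))
def tree : ST := (ST.node (ST.node (ST.node ST.nil (nat_lit 1) (nat_lit 0) (nat_lit 0) ST.nil) (nat_lit 17051715) (nat_lit 6) (nat_lit 2) ST.nil) (nat_lit 17567937) (nat_lit 6) (nat_lit 3) (ST.node (ST.node ST.nil (nat_lit 69827043394) (nat_lit 2) (nat_lit 4) ST.nil) (nat_lit 70917828739) (nat_lit 4) (nat_lit 4) ST.nil))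

theorem d0 : sumPow (grd 23 (defn tbl rnk (okPair iv))) 6 0 = 0 := by decide +kernel
theorem s0 : sumPow (grd 1 (chunk tbl (okRule iv tree) str 9)) 3 0 = 0 := by decide +kernel
theorem c0 : sumPow (clchunk tbl clo 639 1535 3 302231468414456310005761) 11 0 = 0 := by decide +kernel

noncomputable def C : Cert := ⟨tbl, rnk, str, clo, tree, 23, 9, 9, 1, []⟩

theorem good : C.Good rels iv :=
  ⟨by decide, by decide +kernel,
   all_lt_of_gblocks _ 6 23 1 (by decide) (blocks_cons (blocks_nil _) d0),
   by decide +kernel,
   all_lt_of_gblocks _ 3 1 1 (by decide) (blocks_cons (blocks_nil _) s0)⟩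

theorem closed : C.Closed [1, 2, 3] 23 :=
  ⟨by decide, by decide, 639, 1535, 3, 302231468414456310005761, by decide, by decide, by decide +kernel,
    all_lt_of_blocks _ 11 3 1 (by decide) (blocks_cons (blocks_nil _) c0)⟩

theorem relIndex_le {G : Type*} [Group G] {el : ℕ → G} (R : RuleOK el rels iv) (H : Subgroup G)
    (hfix : ∀ x ∈ ([] : List ℕ), el x ∈ H) :
    H.relIndex (Subgroup.closure (el '' {x | x ∈ ([1, 2, 3] : List ℕ)})) ≠ 0 ∧
      H.relIndex (Subgroup.closure (el '' {x | x ∈ ([1, 2, 3] : List ℕ)})) ≤ 24 :=
  Cert.relIndex_le good closed R H hfix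


end Cfsg.Agent.H78.CS4
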